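import Groth.Agent.Lib.LocFreeDual20.Basic
import Groth.Agent.Lib.OX.FlatLocFree
import Groth.Agent.Lib.RpushPerf25.PerfTensor
import Groth.Agent.Lib.TensorPerf20.FlatKernel
import Groth.Agent.Lib.FlatFP.InjCokerSheaf
import Groth.Agent.Lib.ModelK.Exists
import Groth.Agent.Lib.Euler.Coh
import Groth.Agent.Lib.SerrePn27.HomTwist
import Groth.Agent.Lib.BCCoh.GlobalSec
import Groth.Agent.Lib.OX.LTensor
import Groth.Agent.S4498

/-!
# Morphisms into `f^*M ⊗ F` are corepresentable

`Hom(E, N ⊗ F)` is `Hom(O, N ⊗ (F ⊗ E^∨))` for finite locally free `E`, naturally in both.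
-/

set_option autoImplicit false
set_option maxHeartbeats 1000000
set_option linter.style.haveILetI false
set_option backward.isDefEq.respectTransparency false

universe u

open CategoryTheory CategoryTheory.Limits AlgebraicGeometry MonoidalCategory Opposite

noncomputable section

namespace GrothLib.HomCorep20

attribute [local instance] LocFreeHom.hasSheafHom

open LocFreeHom OX LocFreeDual20

section transfer

variable {X : Scheme.{u}}

local notation "𝒪" => Coh.structureModule X

theorem isFinLocFree_dual {E : X.Modules} (hE : FlatMod.IsFinLocFree E) : FlatMod.IsFinLocFree (dual E) :=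
  isFinLocFree_iHom hE ModelK.isFinLocFree_structure

/-- `F ⊗ E^∨`. -/
abbrev twistDual (F E : X.Modules) : X.Modules := (T F).obj (dual E)

/-- The map `F ⊗ E^∨ ⟶ F ⊗ A^∨` of a morphism `A ⟶ E`. -/
abbrev twistMap (F : X.Modules) {A E : X.Modules} (a : A ⟶ E) : twistDual F E ⟶ twistDual F A :=
  (T F).map (hMap a (Coh.structureModule X))

theorem isCoh_twistDual [IsLocallyNoetherian X] {F E : X.Modules} (hF : Coh.IsCoh F)
    (hE : FlatMod.IsFinLocFree E) : Coh.IsCoh (twistDual F E) :=
  TensorPerf20.isCoh_tensor hF (Euler.isCoh_of_isFinLocFree (isFinLocFree_dual hE))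

theorem isFlatOver_twistDual {S : Scheme.{u}} (f : X ⟶ S) {F E : X.Modules} (hF : FlatMod.IsFlatOver f F)
    (hE : FlatMod.IsFinLocFree E) : FlatMod.IsFlatOver f (twistDual F E) := fun x =>
  (FlatFP.isFlatOverAt_congr f (br (dual E) F) x).1
    (RpushPerf25.flatOverAt_tensor f (OX.flat_of_isFinLocFree (isFinLocFree_dual hE)) hF x)

/-- `Hom(E, P) ≅ Hom(O, Hom(E, P))`. -/
def adjEquiv (E P : X.Modules) : (E ⟶ P) ≃ (𝒪 ⟶ iHom E P) :=
  ((unitR E).symm.homCongr (Iso.refl P)).trans ((DCoh.sheafHomAdj E).homEquiv _ P)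

theorem adjEquiv_apply (E P : X.Modules) (x : E ⟶ P) : adjEquiv E P x = curry ((unitR E).hom ≫ x) := by
  simp [adjEquiv, Iso.homCongr]

theorem adjEquiv_add (E P : X.Modules) (x y : E ⟶ P) : adjEquiv E P (x + y) = adjEquiv E P x + adjEquiv E P y := by
  simp only [adjEquiv_apply]
  refine hom_ext ?_
  rw [uncurry_curry, uncurry, Functor.map_add, Preadditive.add_comp, ← uncurry, ← uncurry, uncurry_curry,
    uncurry_curry, Preadditive.comp_add]

variable {N N' : X.Modules} (F : X.Modules) {E A : X.Modules} (hE : FlatMod.IsFinLocFree E)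
  (hA : FlatMod.IsFinLocFree A)

/-- `Hom(E, N ⊗ F) ⟶ Hom(O, N ⊗ (F ⊗ E^∨))`. -/
def toDual (N : X.Modules) (x : E ⟶ (T N).obj F) : 𝒪 ⟶ (T N).obj (twistDual F E) :=
  adjEquiv E _ x ≫ (haveI := isIso_θ hE ((T N).obj F); inv (θ E ((T N).obj F))) ≫ (tensorAssoc N F (dual E)).hom

theorem toDual_add (N : X.Modules) (x y : E ⟶ (T N).obj F) :
    toDual F hE N (x + y) = toDual F hE N x + toDual F hE N y := by
  simp [toDual, adjEquiv_add]

theorem toDual_bijective (N : X.Modules) : Function.Bijective (toDual F hE N) := by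
  haveI := isIso_θ hE ((T N).obj F)
  let e := (adjEquiv E ((T N).obj F)).trans
    ((asIso (θ E ((T N).obj F))).symm ≪≫ tensorAssoc N F (dual E)).homToEquiv
  have : toDual F hE N = ⇑e := funext fun x => by simp [toDual, e, Iso.homToEquiv]
  rw [this]
  exact e.bijective

theorem toDual_dinatural (N : X.Modules) (a : A ⟶ E) (x : E ⟶ (T N).obj F) :
    toDual F hA N (a ≫ x) = toDual F hE N x ≫ (T N).map (twistMap F a) := by
  haveI := isIso_θ hE ((T N).obj F)
  haveI := isIso_θ hA ((T N).obj F)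
  have h1 : adjEquiv A _ (a ≫ x) = adjEquiv E _ x ≫ hMap a ((T N).obj F) := by
    rw [adjEquiv_apply, adjEquiv_apply]
    refine hom_ext ?_
    rw [uncurry_comp_hMap, uncurry_curry, uncurry_curry, wh, tMap_left, ← Category.assoc _ (unitR E).hom,
      unitR_natural, Category.assoc]
  have h2 : inv (θ E ((T N).obj F)) ≫ (T ((T N).obj F)).map (hMap a 𝒪) =
      hMap a ((T N).obj F) ≫ inv (θ A ((T N).obj F)) := by
    rw [IsIso.inv_comp_eq, ← Category.assoc, IsIso.eq_comp_inv, θ_dinatural]
  rw [toDual, toDual, h1, Category.assoc, ← Category.assoc (hMap a _), ← h2]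
  simp only [Category.assoc]
  exact congrArg (adjEquiv E _ x ≫ inv _ ≫ ·) (tensorAssoc_natural₃ N F (hMap a 𝒪))

theorem toDual_natural (g : N ⟶ N') (x : E ⟶ (T N).obj F) :
    toDual F hE N' (x ≫ wh g F) = toDual F hE N x ≫ wh g (twistDual F E) := by
  haveI := isIso_θ hE ((T N).obj F)
  haveI := isIso_θ hE ((T N').obj F)
  have h1 : adjEquiv E _ (x ≫ wh g F) = adjEquiv E _ x ≫ (DCoh.sheafHom E).map (wh g F) := by
    rw [adjEquiv_apply, adjEquiv_apply, curry, curry, ← Category.assoc, Adjunction.homEquiv_naturality_right]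
  have h2 : inv (θ E ((T N).obj F)) ≫ wh (wh g F) (dual E) =
      (DCoh.sheafHom E).map (wh g F) ≫ inv (θ E ((T N').obj F)) := by
    rw [IsIso.inv_comp_eq, ← Category.assoc, IsIso.eq_comp_inv, θ_natural]
  rw [toDual, toDual, h1, Category.assoc, ← Category.assoc ((DCoh.sheafHom E).map _), ← h2]
  simp only [Category.assoc]
  exact congrArg (adjEquiv E _ x ≫ inv _ ≫ ·) (tensorAssoc_natural₁ g F (dual E))

end transfer

section affine

variable (A : Type u) [CommRing A] {X : Scheme.{u}} [X.Over (Spec (CommRingCat.of A))]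

/-- The functor transformation of a morphism in the tensored variable. -/
def tensorANat {H H' : X.Modules} (u : H ⟶ H') : CohIII.tensorAFunctor A H ⟶ CohIII.tensorAFunctor A H' where
  app M := ((DCoh.tensorBi (X := X)).obj
    ((Scheme.Modules.pullback (X ↘ Spec (CommRingCat.of A))).obj ((tilde.functor (CommRingCat.of A)).obj M))).map u
  naturality M M' f := (((DCoh.tensorBi (X := X)).map ((Scheme.Modules.pullback (X ↘ Spec (CommRingCat.of A))).map
    ((tilde.functor (CommRingCat.of A)).map f))).naturality u).symm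

/-- Maps out of `O` as elements of the global sections module. -/
def secA (P : X.Modules) : (Coh.structureModule X ⟶ P) ≃+ (CohIII.globalSectionsA A).obj P :=
  (SerrePn27.secEquiv P).trans (BCCoh.gsEquiv P)

theorem secA_comp {P P' : X.Modules} (g : P ⟶ P') (s : Coh.structureModule X ⟶ P) :
    secA A P' (s ≫ g) = ((CohIII.globalSectionsA A).map g).hom (secA A P s) := rfl

variable [IsNoetherianRing A] [IsProper (X ↘ Spec (CommRingCat.of A))]

/-- `M ↦ Hom(G, f^*M ⊗ F)` is corepresented by a finite module. -/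
theorem exists_corep (F : X.Modules) (hF : Coh.IsCoh F) (hfl : FlatMod.IsFlatOver (X ↘ Spec (CommRingCat.of A)) F)
    (G E₀ E₁ : X.Modules) (h₀ : FlatMod.IsFinLocFree E₀) (h₁ : FlatMod.IsFinLocFree E₁)
    (v : E₁ ⟶ E₀) (π : E₀ ⟶ G) [Epi π] (w : v ≫ π = 0) (hex : (ShortComplex.mk v π w).Exact) :
    ∃ N : ModuleCat.{u} A, Module.Finite A N ∧
      Nonempty (CohIII.tensorAFunctor A F ⋙ preadditiveCoyoneda.obj (op G) ≅
        (linearCoyoneda A (ModuleCat.{u} A)).obj (op N) ⋙ forget₂ (ModuleCat.{u} A) AddCommGrpCat.{u}) := by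
  haveI : IsLocallyNoetherian X := LocallyOfFiniteType.isLocallyNoetherian (X ↘ Spec (CommRingCat.of A))
  let H₀ := twistDual F E₀
  let H₁ := twistDual F E₁
  let η : CohIII.tensorAFunctor A H₀ ⋙ CohIII.globalSectionsA A ⟶ CohIII.tensorAFunctor A H₁ ⋙ CohIII.globalSectionsA A :=
    Functor.whiskerRight (tensorANat A (twistMap F v)) _
  obtain ⟨R, ι, hR, hinj, him⟩ := Groth.Agent.S4498.result A X H₀ H₁ (isCoh_twistDual hF h₀) (isCoh_twistDual hF h₁)
    (isFlatOver_twistDual _ hfl h₀) (isFlatOver_twistDual _ hfl h₁) η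
  let PN := fun M : ModuleCat.{u} A =>
    (Scheme.Modules.pullback (X ↘ Spec (CommRingCat.of A))).obj ((tilde.functor (CommRingCat.of A)).obj M)
  let Φ : ∀ M : ModuleCat.{u} A, (G ⟶ (CohIII.tensorAFunctor A F).obj M) →
      (CohIII.tensorAFunctor A H₀ ⋙ CohIII.globalSectionsA A).obj M := fun M x =>
    secA A _ (toDual F h₀ (PN M) (π ≫ x))
  have hΦadd : ∀ M x y, Φ M (x + y) = Φ M x + Φ M y := fun M x y => by
    show secA A _ (toDual F h₀ (PN M) (π ≫ (x + y))) = _
    rw [Preadditive.comp_add, toDual_add, map_add]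
    rfl
  have hΦinj : ∀ M, Function.Injective (Φ M) := fun M x y h =>
    (cancel_epi π).1 ((toDual_bijective F h₀ (PN M)).1 ((secA A _).injective h))
  have hΦη : ∀ M x, ∃ y, (ι.app M).hom y = Φ M x := fun M x => (him M _).1 (by
    show ((CohIII.globalSectionsA A).map _).hom (secA A _ _) = 0
    rw [← secA_comp]
    show secA A _ (toDual F h₀ (PN M) (π ≫ x) ≫ (T (PN M)).map (twistMap F v)) = 0
    rw [← toDual_dinatural F h₀ h₁, reassoc_of% w, zero_comp]
    have h0 : toDual F h₁ (PN M) (0 : E₁ ⟶ _) = 0 := by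
      have := toDual_add F h₁ (PN M) 0 0
      rw [add_zero] at this
      simpa using this
    exact (congrArg (secA A _) h0).trans (map_zero _))
  have hsurj : ∀ M y, ∃ x, Φ M x = (ι.app M).hom y := fun M y => by
    obtain ⟨s, hs⟩ := (secA A _).surjective ((ι.app M).hom y)
    obtain ⟨z, rfl⟩ := (toDual_bijective F h₀ (PN M)).2 s
    have h := (him M ((ι.app M).hom y)).2 ⟨y, rfl⟩
    rw [← hs] at h
    replace h : secA A _ (toDual F h₀ (PN M) z ≫ (T (PN M)).map (twistMap F v)) = 0 := h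
    rw [← toDual_dinatural F h₀ h₁] at h
    have hz : v ≫ z = 0 := (toDual_bijective F h₁ (PN M)).1 (by
      have h0 : toDual F h₁ (PN M) (0 : E₁ ⟶ _) = 0 := by
        have := toDual_add F h₁ (PN M) 0 0
        rw [add_zero] at this
        simpa using this
      rw [h0]
      exact (secA A _).injective (h.trans (map_zero _).symm))
    refine ⟨hex.desc z hz, ?_⟩
    rw [← hs]
    exact congrArg (fun t => secA A _ (toDual F h₀ (PN M) t)) (hex.g_desc z hz)
  choose ψ hψ using hΦη
  let e : ∀ M, (G ⟶ (CohIII.tensorAFunctor A F).obj M) ≃+ (R ⟶ M) := fun M =>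
    AddEquiv.ofBijective
      (AddMonoidHom.mk' (ψ M) fun x y => hinj M (by rw [map_add, hψ, hψ, hψ, hΦadd]))
      ⟨fun x y h => hΦinj M (by rw [← hψ, ← hψ]; exact congrArg (ι.app M).hom h), fun y => by
        obtain ⟨x, hx⟩ := hsurj M y
        exact ⟨x, hinj M ((hψ M x).trans hx)⟩⟩
  refine ⟨R, hR, ⟨NatIso.ofComponents (fun M => (e M).toAddCommGrpIso) fun {M M'} f => ?_⟩⟩
  refine AddCommGrpCat.hom_ext (AddMonoidHom.ext fun x => hinj M' ?_)
  show (ι.app M').hom (ψ M' (x ≫ (CohIII.tensorAFunctor A F).map f)) = (ι.app M').hom (ψ M x ≫ f)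
  rw [hψ]
  refine Eq.trans ?_ (ConcreteCategory.congr_hom (ι.naturality f) (ψ M x)).symm
  show _ = ((CohIII.tensorAFunctor A H₀ ⋙ CohIII.globalSectionsA A).map f).hom ((ι.app M).hom (ψ M x))
  rw [hψ]
  show secA A _ _ = ((CohIII.globalSectionsA A).map _).hom (secA A _ _)
  rw [← secA_comp]
  refine congrArg (secA A _) ?_
  rw [← Category.assoc]
  exact toDual_natural F h₀ ((Scheme.Modules.pullback (X ↘ Spec (CommRingCat.of A))).map
    ((tilde.functor (CommRingCat.of A)).map f)) (π ≫ x)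

end affine

end GrothLib.HomCorep20
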