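import Groth.Agent.Lib.HomCorep20.Basic
import Groth.Agent.Lib.AffBC.Basic
import Groth.Agent.Lib.FunMor20.ProjAffine
import Groth.Agent.Lib.FunMor20.Scalar
import Groth.Agent.Lib.FundIso27.Ev
import Groth.Agent.Lib.OX.AffinePush
import Groth.Agent.Lib.CurveMult.TwistHom

/-!
# `f^*(B~) ⊗ P ≅ h_* h^* P`, compatibly with the units

For a ring map `A → B` and the cartesian square `h : X ×_A B → X`.
-/

set_option autoImplicit false
set_option maxHeartbeats 1000000
set_option linter.style.haveILetI false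
set_option backward.isDefEq.respectTransparency false

universe u

open CategoryTheory CategoryTheory.Limits AlgebraicGeometry Opposite

noncomputable section

namespace GrothLib.HomCorep20

attribute [local instance] LocFreeHom.hasSheafHom

open LocFreeHom OX

variable {A B : Type u} [CommRing A] [CommRing B] (ψ : A →+* B) {X X' : Scheme.{u}}
  (f : X ⟶ Spec (CommRingCat.of A)) (f' : X' ⟶ Spec (CommRingCat.of B)) (h : X' ⟶ X)
  (H : IsPullback h f' f (Spec.map (CommRingCat.ofHom ψ)))

/-- `B` over `A`. -/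
abbrev algMod : ModuleCat.{u} A := (ModuleCat.restrictScalars ψ).obj (ModuleCat.of B B)

/-- `A ⟶ B`. -/
def algLin : ModuleCat.of A A ⟶ algMod ψ :=
  ModuleCat.ofHom (X := A) (Y := algMod ψ)
    { toFun := fun a => (ψ a : B), map_add' := fun a b => map_add ψ a b, map_smul' := fun a b => map_mul ψ a b }

/-- `f^*(M~)`. -/
abbrev PN : ModuleCat.{u} A ⥤ X.Modules := tilde.functor (CommRingCat.of A) ⋙ Scheme.Modules.pullback f

/-- `B` as the sections of `k_* O`. -/
def eB : algMod ψ ⟶ (moduleSpecΓFunctor (R := CommRingCat.of A)).obj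
    ((Scheme.Modules.pushforward (Spec.map (CommRingCat.ofHom ψ))).obj (Coh.structureModule (Spec (CommRingCat.of B)))) :=
  letI : (Spec (CommRingCat.of B)).Over (Spec (CommRingCat.of A)) := ⟨Spec.map (CommRingCat.ofHom ψ)⟩
  let g := BCCoh.gsEquiv (A := A) (Coh.structureModule (Spec (CommRingCat.of B)))
  ModuleCat.ofHom (X := algMod ψ) (Y := (CohIII.globalSectionsA A).obj (Coh.structureModule (Spec (CommRingCat.of B))))
    { toFun := fun b => g ((Scheme.ΓSpecIso (CommRingCat.of B)).inv (b : B))
      map_add' := fun a b =>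
        (congrArg g (map_add (Scheme.ΓSpecIso (CommRingCat.of B)).inv.hom (a : B) (b : B))).trans (map_add g _ _)
      map_smul' := fun a b => by
        refine (congrArg g ?_).trans (BCCoh.gsEquiv_smul _ a _)
        show (Scheme.ΓSpecIso (CommRingCat.of B)).inv.hom (ψ a * (show B from b)) =
          (show Γ(Spec (CommRingCat.of B), ⊤) from Coh.toGlobal (Spec.map (CommRingCat.ofHom ψ)) a) *
            (Scheme.ΓSpecIso (CommRingCat.of B)).inv.hom (show B from b)
        rw [map_mul]
        exact congrArg (· * _) (ConcreteCategory.congr_hom (Scheme.ΓSpecIso_inv_naturality (CommRingCat.ofHom ψ)) a) }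

theorem eB_apply (b : algMod ψ) : (eB ψ).hom b =
    (show Γ(Spec (CommRingCat.of B), ⊤) from (Scheme.ΓSpecIso (CommRingCat.of B)).inv (b : B)) := rfl

theorem isIso_eB : IsIso (eB ψ) :=
  (ConcreteCategory.isIso_iff_bijective _).2
    (show Function.Bijective (fun b : B => (Scheme.ΓSpecIso (CommRingCat.of B)).inv b) from
      ConcreteCategory.bijective_of_isIso (Scheme.ΓSpecIso (CommRingCat.of B)).inv)

/-- `B~ ⟶ k_* O`. -/
def zeta : (tilde.functor (CommRingCat.of A)).obj (algMod ψ) ⟶
    (Scheme.Modules.pushforward (Spec.map (CommRingCat.ofHom ψ))).obj (Coh.structureModule (Spec (CommRingCat.of B))) :=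
  ((tilde.adjunction (R := CommRingCat.of A)).homEquiv _ _).symm (eB ψ)

theorem isIso_zeta : IsIso (zeta ψ) := by
  rw [zeta, Adjunction.homEquiv_counit]
  haveI := isIso_eB ψ
  haveI : IsIso ((tilde.adjunction (R := CommRingCat.of A)).counit.app
      ((Scheme.Modules.pushforward (Spec.map (CommRingCat.ofHom ψ))).obj (Coh.structureModule (Spec (CommRingCat.of B))))) :=
    OX.isIso_counit_push_tilde (CommRingCat.ofHom ψ) (ModuleCat.of B B)
  infer_instance

theorem tilde_unit_one : ((tilde.adjunction (R := CommRingCat.of A)).unit.app (ModuleCat.of A A)).hom (1 : A) =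
    (1 : Γ(Spec (CommRingCat.of A), ⊤)) := by
  simp [tilde.adjunction, tilde.toTildeΓNatIso]
  show StructureSheaf.toOpenₗ A A ⊤ 1 = _
  refine Subtype.ext (funext fun x => ?_)
  exact OreLocalization.one_def.symm

/-- `O ⟶ k_* O`. -/
def c₁ : Coh.structureModule (Spec (CommRingCat.of A)) ⟶
    (Scheme.Modules.pushforward (Spec.map (CommRingCat.ofHom ψ))).obj (Coh.structureModule (Spec (CommRingCat.of B))) :=
  (tilde.functor (CommRingCat.of A)).map (algLin ψ) ≫ zeta ψ

theorem c₁_one : (c₁ ψ).app ⊤ (FinCov.one _ ⊤) = (1 : Γ(Spec (CommRingCat.of B), ⊤)) := by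
  have e : ((tilde.adjunction (R := CommRingCat.of A)).homEquiv _ _) (c₁ ψ) = algLin ψ ≫ eB ψ := by
    rw [c₁, Adjunction.homEquiv_naturality_left, zeta, Equiv.apply_symm_apply]
  rw [Adjunction.homEquiv_unit] at e
  have e1 := ConcreteCategory.congr_hom e (1 : A)
  refine Eq.trans ?_ (e1.trans ?_)
  · exact congrArg ((c₁ ψ).app ⊤) (tilde_unit_one (A := A)).symm
  · refine (eB_apply ψ ((algLin ψ).hom (1 : A))).trans ?_
    show (Scheme.ΓSpecIso (CommRingCat.of B)).inv.hom (ψ 1) = _
    rw [map_one, map_one]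

/-- `f^* k_* O ⟶ h_* O`. -/
def bc : (Scheme.Modules.pullback f).obj ((Scheme.Modules.pushforward (Spec.map (CommRingCat.ofHom ψ))).obj
    (Coh.structureModule (Spec (CommRingCat.of B)))) ⟶ (Scheme.Modules.pushforward h).obj (Coh.structureModule X') :=
  AffBC.bcMap H.flip (Coh.structureModule (Spec (CommRingCat.of B))) ≫
    (Scheme.Modules.pushforward h).map (pullUnitIso f').hom

include H in
theorem isAffineHom_h : IsAffineHom h :=
  MorphismProperty.of_isPullback H.flip (inferInstance : IsAffineHom (Spec.map (CommRingCat.ofHom ψ)))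

theorem isIso_bc : IsIso (bc ψ f f' h H) := by
  haveI : (Coh.structureModule (Spec (CommRingCat.of B))).IsQuasicoherent := WeakAss.isQuasicoherent_structureModule
  haveI := AffBC.isIso_bcMap H.flip (Coh.structureModule (Spec (CommRingCat.of B)))
  unfold bc
  infer_instance

/-- The unit on the structure sheaf. -/
def etaO : Coh.structureModule X ⟶ (Scheme.Modules.pushforward h).obj (Coh.structureModule X') :=
  (Scheme.Modules.pullbackPushforwardAdjunction h).unit.app (Coh.structureModule X) ≫
    (Scheme.Modules.pushforward h).map (pullUnitIso h).hom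

theorem etaO_app (U : X.Opens) (r : Γ(X, U)) : (etaO h).app U r = h.app U r :=
  ProjFormula.pullUnitIso_pullSec h U r

theorem bc_compat : (pullUnitIso f).inv ≫ (Scheme.Modules.pullback f).map (c₁ ψ) ≫ bc ψ f f' h H = etaO h := by
  refine CurveMult.hom_ext_one _ _ (Eq.trans ?_ ((etaO_app h ⊤ (1 : Γ(X, ⊤))).trans (map_one (h.app ⊤).hom)).symm)
  let m := (Scheme.Modules.pullback f).map (c₁ ψ) ≫ bc ψ f f' h H
  let adj := Scheme.Modules.pullbackPushforwardAdjunction f
  have h1 : (pullUnitIso f).inv.app ⊤ (FinCov.one X ⊤) =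
      (adj.unit.app (Coh.structureModule (Spec (CommRingCat.of A)))).app ⊤ (FinCov.one _ ⊤) := by
    refine (congrArg ((pullUnitIso f).inv.app ⊤)
      ((ProjFormula.pullUnitIso_pullSec f ⊤ (1 : Γ(Spec (CommRingCat.of A), ⊤))).trans (map_one (f.app ⊤).hom)).symm).trans ?_
    exact congrArg (fun φ => Scheme.Modules.Hom.app φ ⊤ _) (pullUnitIso f).hom_inv_id
  show m.app ⊤ ((pullUnitIso f).inv.app ⊤ (FinCov.one X ⊤)) = _
  rw [h1]
  show ((Scheme.Modules.pushforward f).map m).app ⊤ ((adj.unit.app _).app ⊤ (FinCov.one _ ⊤)) = _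
  have h2 : adj.homEquiv _ _ m = c₁ ψ ≫ AffBC.bcV H.flip (Coh.structureModule (Spec (CommRingCat.of B))) ≫
      (Scheme.Modules.pushforward f).map ((Scheme.Modules.pushforward h).map (pullUnitIso f').hom) := by
    simp only [m, bc, AffBC.bcMap, adj]
    rw [Adjunction.homEquiv_naturality_left, Adjunction.homEquiv_naturality_right, Equiv.apply_symm_apply]
  rw [Adjunction.homEquiv_unit] at h2
  refine (congrArg (fun φ => Scheme.Modules.Hom.app φ ⊤ (FinCov.one _ ⊤)) h2).trans ?_
  refine (congrArg (fun z => (AffBC.bcV H.flip (Coh.structureModule (Spec (CommRingCat.of B))) ≫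
      (Scheme.Modules.pushforward f).map ((Scheme.Modules.pushforward h).map (pullUnitIso f').hom)).app ⊤ z)
    (c₁_one ψ)).trans ?_
  let O' := Coh.structureModule (Spec (CommRingCat.of B))
  have hV : (AffBC.bcV H.flip O').app ⊤ (show Γ(Spec (CommRingCat.of B), ⊤) from 1) =
      ((Scheme.Modules.pullbackPushforwardAdjunction f').unit.app O').app ⊤
        (show Γ(Spec (CommRingCat.of B), ⊤) from 1) := by
    simp only [AffBC.bcV, Scheme.Modules.Hom.comp_app, Scheme.Modules.pushforwardComp_hom_app_app,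
      Scheme.Modules.pushforwardCongr_hom_app_app, Scheme.Modules.pushforwardComp_inv_app_app]
    exact Cohom.map_self_apply ((Scheme.Modules.pullback f').obj O') _ _
  refine Eq.trans ?_ ((ProjFormula.pullUnitIso_pullSec f' ⊤ (1 : Γ(Spec (CommRingCat.of B), ⊤))).trans
    (map_one (f'.app ⊤).hom))
  show ((pullUnitIso f').hom.app ⊤) ((AffBC.bcV H.flip O').app ⊤ (show Γ(Spec (CommRingCat.of B), ⊤) from 1)) = _
  rw [hV]
  rfl

/-! ### The comparison -/

variable (P : X.Modules)

/-- `P ≅ f^*(A~) ⊗ P`. -/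
def unitN : P ≅ (T ((PN f).obj (ModuleCat.of A A))).obj P :=
  (FundIso27.unitR P).symm ≪≫ (T P).mapIso (pullUnitIso f).symm ≪≫ LocFreeDual20.br P _

/-- `f^*(B~) ⊗ P ⟶ h_* h^* P`. -/
def gamma : (T ((PN f).obj (algMod ψ))).obj P ⟶
    (Scheme.Modules.pushforward h).obj ((Scheme.Modules.pullback h).obj P) :=
  (LocFreeDual20.br _ P).hom ≫ (T P).map ((Scheme.Modules.pullback f).map (zeta ψ) ≫ bc ψ f f' h H) ≫
    ProjFormula.projHom h P (Coh.structureModule X') ≫
      (Scheme.Modules.pushforward h).map (FundIso27.unitR ((Scheme.Modules.pullback h).obj P)).hom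

theorem isIso_gamma [P.IsQuasicoherent] : IsIso (gamma ψ f f' h H P) := by
  haveI := isAffineHom_h ψ f f' h H
  haveI := isIso_zeta ψ
  haveI := isIso_bc ψ f f' h H
  haveI : (Coh.structureModule X').IsQuasicoherent := WeakAss.isQuasicoherent_structureModule
  haveI := FunMor20.isIso_projHom_affine h (Coh.structureModule X') P
  unfold gamma
  infer_instance

theorem projHom_etaO : (T P).map (etaO h) ≫ ProjFormula.projHom h P (Coh.structureModule X') ≫
    (Scheme.Modules.pushforward h).map (FundIso27.unitR ((Scheme.Modules.pullback h).obj P)).hom =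
      (FundIso27.unitR P).hom ≫ (Scheme.Modules.pullbackPushforwardAdjunction h).unit.app P := by
  refine ProjFormula.hom_ext_tmul fun U s r => ?_
  change (DCoh.toP.map (FundIso27.unitR ((Scheme.Modules.pullback h).obj P)).hom).app (op (h ⁻¹ᵁ U))
      ((DCoh.toP.map (ProjFormula.projHom h P (Coh.structureModule X'))).app (op U)
        ((DCoh.toP.map ((T P).map (etaO h))).app (op U) (OX.tmulSec P (Coh.structureModule X) U s r))) =
    (DCoh.toP.map ((Scheme.Modules.pullbackPushforwardAdjunction h).unit.app P)).app (op U)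
      ((DCoh.toP.map (FundIso27.unitR P).hom).app (op U) (OX.tmulSec P (Coh.structureModule X) U s r))
  rw [ProjFormula.map_right_tmulSec]
  refine (congrArg _ (ProjFormula.projHom_tmulSec h P (Coh.structureModule X') U s _)).trans ?_
  refine (FundIso27.unitR_tmulSec _ _ _ _).trans ?_
  refine Eq.trans ?_ (congrArg ((DCoh.toP.map ((Scheme.Modules.pullbackPushforwardAdjunction h).unit.app P)).app (op U))
    (FundIso27.unitR_tmulSec P U s r)).symm
  refine Eq.trans ?_ (Scheme.Modules.Hom.app_smul ((Scheme.Modules.pullbackPushforwardAdjunction h).unit.app P) r s).symm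
  refine Eq.trans ?_ (QCoh.pushforward_smul h ((Scheme.Modules.pullback h).obj P) r _).symm
  exact congrArg (fun c : Γ(X', h ⁻¹ᵁ U) => c • (OX.pullSec h P U s)) (etaO_app h U r)

theorem collapse {N₀ N₁ Q R : X.Modules} (a : Coh.structureModule X ⟶ N₀) (b : N₀ ⟶ N₁) (g : N₁ ⟶ Q)
    (r : (T P).obj Q ⟶ R) :
    ((FundIso27.unitR P).inv ≫ (T P).map a ≫ (LocFreeDual20.br P N₀).hom) ≫ wh b P ≫
      (LocFreeDual20.br N₁ P).hom ≫ (T P).map g ≫ r = (FundIso27.unitR P).inv ≫ (T P).map (a ≫ b ≫ g) ≫ r := by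
  have e : wh b P ≫ (LocFreeDual20.br N₁ P).hom = (LocFreeDual20.br N₀ P).hom ≫ (T P).map b := by
    rw [wh, OX.tMap_left, OX.tMap_right, LocFreeDual20.br_natural]
  rw [reassoc_of% e]
  simp only [Category.assoc, Functor.map_comp]
  rw [← Category.assoc (LocFreeDual20.br P N₀).hom, LocFreeDual20.br_br, Category.id_comp]

/-- The comparison is compatible with the units. -/
theorem gamma_compat : (unitN f P).hom ≫ wh ((PN f).map (algLin ψ)) P ≫ gamma ψ f f' h H P =
    (Scheme.Modules.pullbackPushforwardAdjunction h).unit.app P := by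
  refine (collapse P (pullUnitIso f).inv ((PN f).map (algLin ψ))
    ((Scheme.Modules.pullback f).map (zeta ψ) ≫ bc ψ f f' h H) _).trans ?_
  refine Eq.trans ?_ ((Iso.inv_comp_eq _).2 (projHom_etaO h P))
  refine congrArg (fun t => (FundIso27.unitR P).inv ≫ (T P).map t ≫ _) ?_
  rw [← bc_compat ψ f f' h H]
  refine congrArg ((pullUnitIso f).inv ≫ ·) ?_
  rw [← Category.assoc]
  exact congrArg (· ≫ bc ψ f f' h H) (((Scheme.Modules.pullback f).map_comp _ _).symm)

end GrothLib.HomCorep20
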