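import Groth.Agent.Lib.HomCorep20.Fibre
import Groth.Agent.Lib.ResProp22.Ample
import Groth.Agent.Lib.QCoh.PullbackSections
import Groth.Agent.Lib.BCCoh.FibreAffine
import Groth.Agent.Lib.FlatCx.Semi

/-!
# Morphisms between the fibres of flat coherent sheaves

`Hom(G_K, F_K) ≅ Hom_A(Q, K)` linearly over the field `K`, for one finite `A`-module `Q`.
-/

set_option autoImplicit false
set_option maxHeartbeats 1000000
set_option linter.style.haveILetI false
set_option backward.isDefEq.respectTransparency false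

universe u

open CategoryTheory CategoryTheory.Limits AlgebraicGeometry Opposite

noncomputable section

namespace GrothLib.HomCorep20

attribute [local instance] LocFreeHom.hasSheafHom

open LocFreeHom OX

variable {A : Type u} [CommRing A] {X : Scheme.{u}} [X.Over (Spec (CommRingCat.of A))]

theorem smulModΓ_spec {R : CommRingCat.{u}} (N : (Spec R).Modules) (a : R) (W : (Spec R).Opens) (m : Γ(N, W)) :
    (Formal.smulModΓ N ((Scheme.ΓSpecIso R).inv a)).app W m = a • m := by
  rw [KLin.smulModΓ_app_apply, Scheme.Modules.smul_Spec_def]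
  rfl

theorem tilde_map_ofHom {R : CommRingCat.{u}} (M : ModuleCat.{u} R) (a : R) :
    (tilde.functor R).map (ModuleCat.ofHom (a • LinearMap.id : M →ₗ[R] M)) =
      Formal.smulModΓ ((tilde.functor R).obj M) ((Scheme.ΓSpecIso R).inv a) := by
  refine (tilde.adjunction.homEquiv _ _).injective (ModuleCat.hom_ext (LinearMap.ext fun m => ?_))
  rw [Adjunction.homEquiv_unit, Adjunction.homEquiv_unit]
  refine (ConcreteCategory.congr_hom (tilde.adjunction.unit.naturality
    (ModuleCat.ofHom (a • LinearMap.id : M →ₗ[R] M))) m).symm.trans ?_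
  refine ((tilde.adjunction.unit.app M).hom.map_smul a m).trans ?_
  exact (smulModΓ_spec _ a ⊤ _).symm

theorem tilde_map_smul' (M : ModuleCat.{u} A) (a : A) :
    (tilde.functor (CommRingCat.of A)).map (a • 𝟙 M) =
      Formal.smulModΓ ((tilde.functor (CommRingCat.of A)).obj M) ((Scheme.ΓSpecIso (CommRingCat.of A)).inv a) := by
  rw [show a • 𝟙 M = ModuleCat.ofHom (a • LinearMap.id : M →ₗ[A] M) from ModuleCat.hom_ext rfl]
  exact tilde_map_ofHom (R := CommRingCat.of A) M a

theorem tensorA_map_smul (F : X.Modules) (M : ModuleCat.{u} A) (a : A) :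
    (CohIII.tensorAFunctor A F).map (a • 𝟙 M) = a • 𝟙 ((CohIII.tensorAFunctor A F).obj M) := by
  rw [KLin.smul_id]
  show wh ((Scheme.Modules.pullback (X ↘ Spec (CommRingCat.of A))).map
    ((tilde.functor (CommRingCat.of A)).map (a • 𝟙 M))) F = _
  rw [tilde_map_smul', FunMor20.pullback_map_smulModΓ, wh, FunMor20.tensor_map_smulModΓ]
  rfl

variable [IsNoetherianRing A] [IsProper (X ↘ Spec (CommRingCat.of A))]

/-- The corepresentation, linearly. -/
theorem exists_corep_linear (F : X.Modules) (hF : Coh.IsCoh F)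
    (hfl : FlatMod.IsFlatOver (X ↘ Spec (CommRingCat.of A)) F)
    (G E₀ E₁ : X.Modules) (h₀ : FlatMod.IsFinLocFree E₀) (h₁ : FlatMod.IsFinLocFree E₁)
    (v : E₁ ⟶ E₀) (π : E₀ ⟶ G) [Epi π] (w : v ≫ π = 0) (hex : (ShortComplex.mk v π w).Exact) :
    ∃ (Q : ModuleCat.{u} A) (e : ∀ M, (G ⟶ (CohIII.tensorAFunctor A F).obj M) ≃ₗ[A] (Q ⟶ M)),
      Module.Finite A Q ∧ ∀ (M M' : ModuleCat.{u} A) (g : M ⟶ M') x,
        e M' (x ≫ (CohIII.tensorAFunctor A F).map g) = e M x ≫ g := by
  obtain ⟨Q, hQ, ⟨i⟩⟩ := exists_corep A F hF hfl G E₀ E₁ h₀ h₁ v π w hex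
  let e₀ : ∀ M, (G ⟶ (CohIII.tensorAFunctor A F).obj M) ≃+ (Q ⟶ M) := fun M =>
    (i.app M).addCommGroupIsoToAddEquiv
  have hnat : ∀ (M M' : ModuleCat.{u} A) (g : M ⟶ M') x,
      e₀ M' (x ≫ (CohIII.tensorAFunctor A F).map g) = e₀ M x ≫ g := fun M M' g x =>
    ConcreteCategory.congr_hom (i.hom.naturality g) x
  refine ⟨Q, fun M => (e₀ M).toLinearEquiv fun a x => ?_, hQ, hnat⟩
  have e : a • x = x ≫ (CohIII.tensorAFunctor A F).map (a • 𝟙 M) := by
    rw [tensorA_map_smul, Linear.comp_smul, Category.comp_id]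
  rw [e, hnat, Linear.comp_smul, Category.comp_id]

/-- Elements of a field over `A` are fractions of elements of `A`. -/
def IsFrac (A K : Type u) [CommRing A] [Field K] [Algebra A K] : Prop :=
  ∀ c : K, ∃ a b : A, algebraMap A K b ≠ 0 ∧ c * algebraMap A K b = algebraMap A K a

/-- One module `Q` computes `Hom` on all fibres. -/
theorem exists_homModel (F : X.Modules) (hF : Coh.IsCoh F)
    (hfl : FlatMod.IsFlatOver (X ↘ Spec (CommRingCat.of A)) F)
    (G E₀ E₁ : X.Modules) (h₀ : FlatMod.IsFinLocFree E₀) (h₁ : FlatMod.IsFinLocFree E₁)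
    (v : E₁ ⟶ E₀) (π : E₀ ⟶ G) [Epi π] (w : v ≫ π = 0) (hex : (ShortComplex.mk v π w).Exact) :
    ∃ (Q : ModuleCat.{u} A) (e₀ : (G ⟶ F) ≃ₗ[A] (Q →ₗ[A] A)), Module.Finite A Q ∧
      ∀ (K : Type u) [Field K] [Algebra A K] (_ : IsFrac A K) (X' : Scheme.{u})
        [X'.Over (Spec (CommRingCat.of K))] (h : X' ⟶ X)
        (_ : IsPullback h (X' ↘ Spec (CommRingCat.of K)) (X ↘ Spec (CommRingCat.of A))
          (Spec.map (CommRingCat.ofHom (algebraMap A K)))),
        ∃ Θ : ((Scheme.Modules.pullback h).obj G ⟶ (Scheme.Modules.pullback h).obj F) ≃ₗ[K] (Q →ₗ[A] K),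
          ∀ φ q, Θ ((Scheme.Modules.pullback h).map φ) q = algebraMap A K (e₀ φ q) := by
  obtain ⟨Q, e, hQ, hnat⟩ := exists_corep_linear F hF hfl G E₀ E₁ h₀ h₁ v π w hex
  haveI : F.IsQuasicoherent := hF.1
  let f := X ↘ Spec (CommRingCat.of A)
  let eA : (G ⟶ F) ≃ₗ[A] (G ⟶ (CohIII.tensorAFunctor A F).obj (ModuleCat.of A A)) :=
    Linear.homCongr A (Iso.refl G) (show F ≅ (CohIII.tensorAFunctor A F).obj (ModuleCat.of A A) from unitN f F)
  let e₀ : (G ⟶ F) ≃ₗ[A] (Q →ₗ[A] A) :=
    eA ≪≫ₗ e (ModuleCat.of A A) ≪≫ₗ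
      { toFun := fun g => g.hom
        invFun := fun l => ModuleCat.ofHom l
        left_inv := fun _ => rfl
        right_inv := fun _ => rfl
        map_add' := fun _ _ => rfl
        map_smul' := fun _ _ => rfl }
  refine ⟨Q, e₀, hQ, fun K _ _ hK X' _ h H => ?_⟩
  let f' := X' ↘ Spec (CommRingCat.of K)
  let ψ := algebraMap A K
  let adj := Scheme.Modules.pullbackPushforwardAdjunction h
  haveI := isIso_gamma ψ f f' h H F
  let γ : (CohIII.tensorAFunctor A F).obj (algMod ψ) ≅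
      (Scheme.Modules.pushforward h).obj ((Scheme.Modules.pullback h).obj F) := asIso (gamma ψ f f' h H F)
  let toK : (Q ⟶ algMod ψ) ≃+ (Q →ₗ[A] K) :=
    { toFun := fun g =>
        { toFun := fun q => (g.hom q : K)
          map_add' := fun a b => map_add g.hom a b
          map_smul' := fun a q => (g.hom.map_smul a q).trans (Algebra.smul_def (A := K) a (show K from g.hom q)).symm }
      invFun := fun l => ModuleCat.ofHom (X := Q) (Y := algMod ψ)
        { toFun := fun q => (l q : K)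
          map_add' := fun a b => map_add l a b
          map_smul' := fun a q => (l.map_smul a q).trans (Algebra.smul_def (A := K) a (show K from l q)) }
      left_inv := fun _ => rfl
      right_inv := fun _ => rfl
      map_add' := fun _ _ => rfl }
  let L : ((Scheme.Modules.pullback h).obj G ⟶ (Scheme.Modules.pullback h).obj F) ≃+
      (G ⟶ (Scheme.Modules.pushforward h).obj ((Scheme.Modules.pullback h).obj F)) :=
    { adj.homEquiv G ((Scheme.Modules.pullback h).obj F) with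
      map_add' := fun a b => by
        simp only [Equiv.toFun_as_coe, Adjunction.homEquiv_unit, Functor.map_add, Preadditive.comp_add] }
  let Θ₀ : ((Scheme.Modules.pullback h).obj G ⟶ (Scheme.Modules.pullback h).obj F) ≃+ (Q →ₗ[A] K) :=
    L.trans (((Linear.homCongr A (Iso.refl G) γ.symm) ≪≫ₗ e (algMod ψ)).toAddEquiv.trans toK)
  have hsq : ∀ a : A, f'.appTop ((Scheme.ΓSpecIso (CommRingCat.of K)).inv (ψ a)) =
      h.appTop (f.appTop ((Scheme.ΓSpecIso (CommRingCat.of A)).inv a)) := fun a => by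
    have e1 := congrArg (fun k : X' ⟶ Spec (CommRingCat.of A) => k.appTop ((Scheme.ΓSpecIso (CommRingCat.of A)).inv a)) H.w
    simp only [Scheme.Hom.comp_appTop] at e1
    refine Eq.trans ?_ e1.symm
    exact congrArg f'.appTop (ConcreteCategory.congr_hom
      (Scheme.ΓSpecIso_inv_naturality (CommRingCat.ofHom ψ)) a)
  have hL : ∀ (a : A) x, L (ψ a • x) = a • L x := fun a x => by
    have e1 : ψ a • x = x ≫ Formal.smulModΓ ((Scheme.Modules.pullback h).obj F)
        (h.appTop (f.appTop ((Scheme.ΓSpecIso (CommRingCat.of A)).inv a))) := by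
      rw [← hsq]
      exact (KLin.smul_def _ _ (ψ a) x).trans (KLin.comp_smulModΓ x _).symm
    show adj.homEquiv G _ (ψ a • x) = _
    rw [e1, Adjunction.homEquiv_naturality_right, FunMor20.pushforward_map_smulModΓ, KLin.comp_smulModΓ]
    rfl
  have hsmul : ∀ (a : A) x, Θ₀ (ψ a • x) = ψ a • Θ₀ x := fun a x => by
    show toK (((Linear.homCongr A (Iso.refl G) γ.symm) ≪≫ₗ e (algMod ψ)) (L (ψ a • x))) = _
    rw [hL, LinearEquiv.map_smul]
    exact LinearMap.ext fun q => rfl
  refine ⟨Θ₀.toLinearEquiv fun c x => ?_, fun φ q => ?_⟩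
  · obtain ⟨a, b, hb, hab⟩ := hK c
    refine smul_right_injective (Q →ₗ[A] K) hb ?_
    show ψ b • Θ₀ (c • x) = ψ b • c • Θ₀ x
    rw [← hsmul, smul_smul, smul_smul, mul_comm _ c, hab, hsmul]
  · show (toK (e (algMod ψ) ((𝟙 G ≫ adj.homEquiv G _ ((Scheme.Modules.pullback h).map φ)) ≫ γ.inv))) q = _
    have e1 : (𝟙 G ≫ adj.homEquiv G _ ((Scheme.Modules.pullback h).map φ)) ≫ γ.inv =
        eA φ ≫ (CohIII.tensorAFunctor A F).map (algLin ψ) := by
      rw [Category.id_comp, Iso.comp_inv_eq, Adjunction.homEquiv_unit]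
      refine (adj.unit.naturality φ).symm.trans ?_
      show φ ≫ adj.unit.app F = (((Iso.refl G).inv ≫ φ ≫ (unitN f F).hom) ≫ wh ((PN f).map (algLin ψ)) F) ≫ gamma ψ f f' h H F
      rw [← gamma_compat ψ f f' h H F]
      simp only [Iso.refl_inv, Category.id_comp, Category.assoc]
    rw [e1, hnat]
    rfl

theorem finrank_linearMap_field {Q K : Type u} [AddCommGroup Q] [Module A Q] [Module.Finite A Q] [Field K]
    [Algebra A K] : Module.finrank K (Q →ₗ[A] K) = Module.finrank K (TensorProduct A K Q) :=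
  (LinearMap.liftBaseChangeEquiv K (R := A) (M := Q) (N := K)).finrank_eq.trans Subspace.dual_finrank_eq

omit [IsNoetherianRing A] [IsProper (X ↘ Spec (CommRingCat.of A))] in
/-- A resolution property gives presentations. -/
theorem exists_presentation [IsLocallyNoetherian X] (hres : PerfAux.HasResolutionProperty X) {G : X.Modules}
    (hG : Coh.IsCoh G) :
    ∃ (E₀ E₁ : X.Modules) (_ : FlatMod.IsFinLocFree E₀) (_ : FlatMod.IsFinLocFree E₁) (v : E₁ ⟶ E₀)
      (π : E₀ ⟶ G) (_ : Epi π) (w : v ≫ π = 0), (ShortComplex.mk v π w).Exact := by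
  obtain ⟨E₀, π, h₀, hπ⟩ := hres G hG.1 hG.2
  have hK := QCoh.isCoh_kernel π (Euler.isCoh_of_isFinLocFree h₀) hG
  obtain ⟨E₁, v, h₁, hv⟩ := hres (kernel π) hK.1 hK.2
  haveI := hv
  refine ⟨E₀, E₁, h₀, h₁, v ≫ kernel.ι π, π, hπ, by rw [Category.assoc, kernel.condition, comp_zero], ?_⟩
  let φ : ShortComplex.mk (v ≫ kernel.ι π) π (by rw [Category.assoc, kernel.condition, comp_zero]) ⟶
      ShortComplex.mk (kernel.ι π) π (kernel.condition π) :=
    { τ₁ := v, τ₂ := 𝟙 _, τ₃ := 𝟙 _, comm₁₂ := by simp, comm₂₃ := by simp }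
  haveI : Epi φ.τ₁ := hv
  haveI : IsIso φ.τ₂ := inferInstanceAs (IsIso (𝟙 E₀))
  haveI : Mono φ.τ₃ := inferInstanceAs (Mono (𝟙 G))
  exact (ShortComplex.exact_iff_of_epi_of_isIso_of_mono φ).2 (ShortComplex.exact_kernel π)

end GrothLib.HomCorep20
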