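import Groth.Agent.Lib.HomCorep20.FibreHom
import Groth.Agent.Lib.BCCoh.ModelAffine
import Groth.Agent.Lib.Cohom.Serre
import Groth.Prelude.Def_ega3

/-!
# Dimensions of `Hom` between fibres, over an affine open of the base
-/

set_option autoImplicit false
set_option maxHeartbeats 1000000
set_option linter.style.haveILetI false
set_option backward.isDefEq.respectTransparency false

universe u

open CategoryTheory CategoryTheory.Limits AlgebraicGeometry Opposite TopologicalSpace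

noncomputable section

namespace GrothLib.HomCorep20

variable {Y : Scheme.{u}} {V : Y.Opens} (hV : IsAffineOpen V) {y : Y} (hy : y ∈ V)

/-- Evaluation at a point of an affine open. -/
def resHom : Γ(Y, V) →+* Y.residueField y := (Y.presheaf.germ V y hy ≫ Y.residue y).hom

include hV in
theorem exists_resHom_div (c : Y.residueField y) :
    ∃ a b : Γ(Y, V), resHom hy b ≠ 0 ∧ c * resHom hy b = resHom hy a := by
  obtain ⟨s, rfl⟩ := Y.residue_surjective y c
  letI := TopCat.Presheaf.algebra_section_stalk Y.presheaf (⟨y, hy⟩ : V)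
  haveI := hV.isLocalization_stalk ⟨y, hy⟩
  obtain ⟨a, b, rfl⟩ := IsLocalization.exists_mk'_eq (hV.primeIdealOf ⟨y, hy⟩).asIdeal.primeCompl s
  refine ⟨a, b, ?_, ?_⟩
  · intro h0
    have hu : IsUnit (Y.presheaf.germ V y hy (b : Γ(Y, V))) :=
      IsLocalization.map_units (Y.presheaf.stalk y) (M := (hV.primeIdealOf ⟨y, hy⟩).asIdeal.primeCompl) b
    exact (hu.map (Y.residue y).hom).ne_zero h0
  · show Y.residue y _ * Y.residue y (Y.presheaf.germ V y hy (b : Γ(Y, V))) = Y.residue y (Y.presheaf.germ V y hy a)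
    rw [← map_mul]
    exact congrArg (Y.residue y) (IsLocalization.mk'_spec _ a b)

theorem resHom_fromSpec : Spec.map (CommRingCat.ofHom (resHom hy)) ≫ hV.fromSpec = Y.fromSpecResidueField y := by
  show Spec.map (Y.presheaf.germ V y hy ≫ Y.residue y) ≫ _ = _
  rw [Spec.map_comp, Category.assoc]
  exact congrArg (Spec.map (Y.residue y) ≫ ·) (hV.fromSpecStalk_eq_fromSpecStalk hy)

variable {X : Scheme.{u}} (f : X ⟶ Y)

theorem exists_square : ∃ k : f.fiber y ⟶ ((f ⁻¹ᵁ V : X.Opens) : Scheme.{u}),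
    k ≫ (f ⁻¹ᵁ V).ι = f.fiberι y ∧
      IsPullback k (f.fiberToSpecResidueField y) (BCCoh.affBase f hV) (Spec.map (CommRingCat.ofHom (resHom hy))) ∧
      RingHom.ker (resHom hy) = (hV.primeIdealOf ⟨y, hy⟩).asIdeal := by
  let κ := Y.residueField y
  let q := Y.fromSpecResidueField y
  have hq : ∀ x, q x = y := Scheme.fromSpecResidueField_apply y
  let t : Spec κ ⟶ (V : Scheme.{u}) := IsOpenImmersion.lift V.ι q (by
    rintro _ ⟨x, rfl⟩
    rw [Scheme.Opens.range_ι, SetLike.mem_coe, hq x]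
    exact hy)
  have ht : t ≫ V.ι = q := IsOpenImmersion.lift_fac _ _ _
  let k : f.fiber y ⟶ ((f ⁻¹ᵁ V : X.Opens) : Scheme.{u}) := IsOpenImmersion.lift (f ⁻¹ᵁ V).ι (f.fiberι y) (by
    rintro _ ⟨z, rfl⟩
    rw [Scheme.Opens.range_ι]
    show f (f.fiberι y z) ∈ V
    rw [show f (f.fiberι y z) = q (f.fiberToSpecResidueField y z) from
      congrArg (fun m : f.fiber y ⟶ Y => m z) (f.fiber_fac y), hq]
    exact hy)
  have hk : k ≫ (f ⁻¹ᵁ V).ι = f.fiberι y := IsOpenImmersion.lift_fac _ _ _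
  have hw : k ≫ (f ∣_ V) = f.fiberToSpecResidueField y ≫ t := by
    rw [← cancel_mono V.ι, Category.assoc, Category.assoc, ht, morphismRestrict_ι, ← Category.assoc, hk]
    exact f.fiber_fac y
  have h1 : IsPullback k (f.fiberToSpecResidueField y) (f ∣_ V) t := by
    refine IsPullback.of_right ?_ hw (isPullback_morphismRestrict f V).flip
    rw [hk, ht]
    exact IsPullback.of_hasPullback _ _
  have hψ : Spec.map (CommRingCat.ofHom (resHom hy)) = t ≫ hV.isoSpec.hom := by
    rw [← cancel_mono hV.fromSpec, resHom_fromSpec, Category.assoc, hV.isoSpec_hom_fromSpec, ht]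
  refine ⟨k, hk, ?_, ?_⟩
  · rw [hψ]
    exact h1.of_iso (Iso.refl _) (Iso.refl _) (Iso.refl _) hV.isoSpec (by simp) (by simp) (by simp) (by simp)
  · let x : Spec κ := IsLocalRing.closedPoint κ
    have h2 : x.asIdeal = ⊥ := (Ideal.eq_bot_or_top x.asIdeal).resolve_right x.isPrime.ne_top
    have h3 : t x = ⟨y, hy⟩ := by
      apply Subtype.ext
      exact (congrArg (fun m : Spec κ ⟶ Y => m x) ht).trans (hq x)
    have h4 : (Spec.map (CommRingCat.ofHom (resHom hy))) x = hV.primeIdealOf ⟨y, hy⟩ := by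
      rw [hψ]
      show hV.isoSpec.hom (t x) = _
      rw [h3]
      rfl
    refine Eq.trans ?_ (congrArg PrimeSpectrum.asIdeal h4)
    show Ideal.comap (resHom hy) ⊥ = Ideal.comap (resHom hy) x.asIdeal
    rw [h2]

omit hy in
/-- `dim Hom(G_y, F_y)` over `κ(y)`. -/
def homRank (G F : X.Modules) (y : Y) : ℕ :=
  letI : (f.fiber y).Over (Spec (CommRingCat.of (Y.residueField y))) := ⟨f.fiberToSpecResidueField y⟩
  Module.finrank (Y.residueField y) (CohIII.fiberMod f G y ⟶ CohIII.fiberMod f F y)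

omit hy in
/-- One module computes the dimensions of `Hom` on the fibres over an affine open. -/
theorem exists_localModel [IsProper f] [IsNoetherianRing Γ(Y, V)] (F G : X.Modules) (hF : Coh.IsCoh F)
    (hG : Coh.IsCoh G) (hfl : FlatMod.IsFlatOver f F)
    (hres : PerfAux.HasResolutionProperty ((f ⁻¹ᵁ V : X.Opens) : Scheme.{u})) :
    ∃ Q : ModuleCat.{u} Γ(Y, V), Module.Finite Γ(Y, V) Q ∧ ∀ (y : Y) (hy : y ∈ V),
      homRank f G F y = Module.finrank (hV.primeIdealOf ⟨y, hy⟩).asIdeal.ResidueField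
        (TensorProduct Γ(Y, V) (hV.primeIdealOf ⟨y, hy⟩).asIdeal.ResidueField Q) := by
  let W : X.Opens := f ⁻¹ᵁ V
  let g := BCCoh.affBase f hV
  letI : (W : Scheme.{u}).Over (Spec (CommRingCat.of Γ(Y, V))) := ⟨g⟩
  haveI : IsProper ((W : Scheme.{u}) ↘ Spec (CommRingCat.of Γ(Y, V))) := inferInstanceAs (IsProper g)
  haveI : IsLocallyNoetherian (W : Scheme.{u}) := LocallyOfFiniteType.isLocallyNoetherian g
  haveI : F.IsQuasicoherent := hF.1
  obtain ⟨E₀, E₁, h₀, h₁, v, π, hπ, w, hex⟩ := exists_presentation hres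
    (Cohom.isCoh_restrict _ hG W.ι)
  haveI := hπ
  obtain ⟨Q, e₀, hQ, hfib⟩ := exists_homModel (A := Γ(Y, V)) (F.restrict W.ι) (Cohom.isCoh_restrict _ hF W.ι)
    (BCCoh.isFlatOver_affBase f hV F hfl) (G.restrict W.ι) E₀ E₁ h₀ h₁ v π w hex
  refine ⟨Q, hQ, fun y hy => ?_⟩
  haveI := hQ
  obtain ⟨k, hk, H, hker⟩ := exists_square hV hy f
  let κ := Y.residueField y
  letI : (f.fiber y).Over (Spec (CommRingCat.of κ)) := ⟨f.fiberToSpecResidueField y⟩
  letI : Algebra Γ(Y, V) κ := (resHom hy).toAlgebra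
  obtain ⟨Θ, -⟩ := hfib κ (exists_resHom_div hV hy) (f.fiber y) k H
  let i : ∀ M : X.Modules, (Scheme.Modules.pullback k).obj (M.restrict W.ι) ≅ CohIII.fiberMod f M y := fun M =>
    (Scheme.Modules.pullback k).mapIso ((Scheme.Modules.restrictFunctorIsoPullback W.ι).app M) ≪≫
      (Scheme.Modules.pullbackComp k W.ι).app M ≪≫ (Scheme.Modules.pullbackCongr hk).app M
  show Module.finrank κ (CohIII.fiberMod f G y ⟶ CohIII.fiberMod f F y) = _
  rw [← (Linear.homCongr κ (i G) (i F)).finrank_eq, Θ.finrank_eq, finrank_linearMap_field]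
  let P := hV.primeIdealOf ⟨y, hy⟩
  letI : Algebra P.asIdeal.ResidueField κ :=
    (Ideal.ResidueField.lift P.asIdeal (resHom hy) hker.ge
      (fun a ha => isUnit_iff_ne_zero.2 fun h0 => ha (hker.le h0))).toAlgebra
  haveI : IsScalarTower Γ(Y, V) P.asIdeal.ResidueField κ := IsScalarTower.of_algebraMap_eq fun a =>
    (Ideal.ResidueField.lift_algebraMap P.asIdeal (resHom hy) hker.ge
      (fun a ha => isUnit_iff_ne_zero.2 fun h0 => ha (hker.le h0)) a).symm
  rw [← (TensorProduct.AlgebraTensorModule.cancelBaseChange Γ(Y, V) P.asIdeal.ResidueField κ κ Q).finrank_eq]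
  haveI : Module.Free P.asIdeal.ResidueField (TensorProduct Γ(Y, V) P.asIdeal.ResidueField Q) :=
    Module.Free.of_divisionRing _ _
  exact Module.finrank_baseChange

include hV in
omit hy in
/-- Upper semicontinuity of `dim Hom(G_y, F_y)` over an affine open. -/
theorem isOpen_homRank_le [IsProper f] [IsNoetherianRing Γ(Y, V)] (F G : X.Modules) (hF : Coh.IsCoh F)
    (hG : Coh.IsCoh G) (hfl : FlatMod.IsFlatOver f F)
    (hres : PerfAux.HasResolutionProperty ((f ⁻¹ᵁ V : X.Opens) : Scheme.{u})) (n : ℕ) :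
    IsOpen {y : Y | y ∈ V ∧ homRank f G F y ≤ n} := by
  obtain ⟨Q, hQ, hrank⟩ := exists_localModel hV f F G hF hG hfl hres
  haveI := hQ
  let S : Set (PrimeSpectrum Γ(Y, V)) :=
    {x | Module.finrank x.asIdeal.ResidueField (TensorProduct Γ(Y, V) x.asIdeal.ResidueField Q) ≤ n}
  have hS : IsOpen S := isOpen_iff_mem_nhds.2 fun x hx =>
    (FlatCx.eventually_finrank_fiber_le Q x).mono fun z hz => le_trans hz hx
  have e : {y : Y | y ∈ V ∧ homRank f G F y ≤ n} = hV.fromSpec '' S := by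
    ext z
    constructor
    · rintro ⟨hz, hle⟩
      refine ⟨hV.primeIdealOf ⟨z, hz⟩, ?_, hV.fromSpec_primeIdealOf ⟨z, hz⟩⟩
      show _ ≤ n
      rwa [← hrank z hz]
    · rintro ⟨x, hx, rfl⟩
      have hxV : hV.fromSpec x ∈ V := hV.range_fromSpec.le ⟨x, rfl⟩
      refine ⟨hxV, ?_⟩
      have e1 : hV.primeIdealOf ⟨hV.fromSpec x, hxV⟩ = x :=
        hV.fromSpec.isOpenEmbedding.injective (hV.fromSpec_primeIdealOf ⟨hV.fromSpec x, hxV⟩)
      rw [hrank _ hxV, e1]
      exact hx
  rw [e]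
  exact hV.fromSpec.isOpenEmbedding.isOpenMap _ hS

end GrothLib.HomCorep20
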